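import Groth.Agent.S4704
import Mathlib.AlgebraicGeometry.Noetherian

/-!
# Transport of the regularity of completion maps along ring isomorphisms
-/

universe u

open AlgebraicGeometry CategoryTheory TensorProduct

namespace Groth.Agent.GRing12

/-- An isomorphism is a regular homomorphism. -/
theorem isRegularHom_of_bijective (A B : Type u) [CommRing A] [CommRing B] [Algebra A B]
    (h : Function.Bijective (algebraMap A B)) : CAlg.IsRegularHom A B := by
  let e : A ≃ₐ[A] B := AlgEquiv.ofBijective (Algebra.ofId A B) h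
  refine ⟨Module.Flat.of_linearEquiv e.symm.toLinearEquiv, fun p _ => ?_⟩
  let E : p.Fiber B ≃ₐ[p.ResidueField] p.ResidueField :=
    (Algebra.TensorProduct.congr (AlgEquiv.refl : p.ResidueField ≃ₐ[p.ResidueField] p.ResidueField) e.symm).trans
      (Algebra.TensorProduct.rid A p.ResidueField p.ResidueField)
  refine ⟨isNoetherianRing_of_ringEquiv p.ResidueField E.symm.toRingEquiv, fun k' _ _ _ => ?_⟩
  exact @IsRegularRing.of_ringEquiv _ _ _ _
    ((Algebra.TensorProduct.congr (AlgEquiv.refl : k' ≃ₐ[p.ResidueField] k') E).trans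
      (Algebra.TensorProduct.rid p.ResidueField p.ResidueField k')).symm.toRingEquiv inferInstance

/-- Regularity of the completion map is invariant under isomorphism. -/
theorem isRegularHom_cpl_of_equiv (L L' : Type u) [CommRing L] [CommRing L'] [IsLocalRing L] [IsLocalRing L']
    [IsNoetherianRing L'] (e : L' ≃+* L) [IsNoetherianRing L]
    (h : CAlg.IsRegularHom L (AdicCompletion (IsLocalRing.maximalIdeal L) L)) :
    CAlg.IsRegularHom L' (AdicCompletion (IsLocalRing.maximalIdeal L') L') := by
  letI := e.toRingHom.toAlgebra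
  haveI : IsLocalHom (algebraMap L' L) := (inferInstance : IsLocalHom (e : L' →+* L))
  exact Groth.Agent.S4704.result L' L (isRegularHom_of_bijective L' L e.bijective) h

set_option backward.isDefEq.respectTransparency.types false in
theorem isRegularHom_cpl_of_point {X : Scheme.{u}} [IsLocallyNoetherian X] {U V : X.Opens}
    (hU : IsAffineOpen U) (hV : IsAffineOpen V) (p : Ideal Γ(X, U)) [hp : p.IsPrime]
    (x : X) (hx : hU.fromSpec ⟨p, hp⟩ = x) (hxV : x ∈ V) (hG : CAlg.IsGRing Γ(X, V)) :
    CAlg.IsRegularHom (Localization.AtPrime p)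
      (AdicCompletion (IsLocalRing.maximalIdeal (Localization.AtPrime p)) (Localization.AtPrime p)) := by
  haveI := IsLocallyNoetherian.component_noetherian ⟨U, hU⟩
  haveI := IsLocallyNoetherian.component_noetherian ⟨V, hV⟩
  have hxU : x ∈ U := hx ▸ hU.range_fromSpec.subset ⟨⟨p, hp⟩, rfl⟩
  let q := hV.primeIdealOf ⟨x, hxV⟩
  have hpq : hU.primeIdealOf ⟨x, hxU⟩ = ⟨p, hp⟩ :=
    hU.fromSpec.isOpenEmbedding.injective ((hU.fromSpec_primeIdealOf ⟨x, hxU⟩).trans hx.symm)
  letI : Algebra Γ(X, U) (X.presheaf.stalk x) := X.presheaf.algebra_section_stalk ⟨x, hxU⟩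
  letI : Algebra Γ(X, V) (X.presheaf.stalk x) := X.presheaf.algebra_section_stalk ⟨x, hxV⟩
  have h1 := hU.isLocalization_stalk ⟨x, hxU⟩
  rw [hpq] at h1
  haveI h1' : IsLocalization p.primeCompl (X.presheaf.stalk x) := h1
  haveI h2 : IsLocalization q.asIdeal.primeCompl (X.presheaf.stalk x) := hV.isLocalization_stalk ⟨x, hxV⟩
  let e : Localization.AtPrime p ≃+* Localization.AtPrime q.asIdeal :=
    (IsLocalization.algEquiv p.primeCompl (Localization.AtPrime p) (X.presheaf.stalk x)).toRingEquiv.trans
      (IsLocalization.algEquiv q.asIdeal.primeCompl (X.presheaf.stalk x)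
        (Localization.AtPrime q.asIdeal)).toRingEquiv
  exact isRegularHom_cpl_of_equiv _ _ e (hG.2 q.asIdeal)

end Groth.Agent.GRing12
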